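import Groth.Agent.SpinCurv.K955.NodeCoord
import Mathlib.LinearAlgebra.Matrix.ToLin
import Mathlib.LinearAlgebra.Matrix.Notation

/-!
# The matrix `α(p, q)` over `R[[x, y]]/(xy - pq)`
-/

set_option autoImplicit false

universe u

namespace K955.NodeAlpha

open SpinCurv K955.NodeCoord

variable {R : Type u} [CommRing R] (I : Ideal R) [IsAdicComplete I R] {p q : R}

lemma mulVec_zero' (v : Fin 2 → NodeRing R (p * q)) :
    Matrix.mulVec (nodeAlpha R p q) v =
      ![NodeRing.x R (p * q) * v 0 + algebraMap R _ p * v 1,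
        algebraMap R _ q * v 0 + NodeRing.y R (p * q) * v 1] := by
  funext i
  fin_cases i
  · simp [nodeAlpha, Matrix.mulVec, dotProduct, Fin.sum_univ_two]
  · simp [nodeAlpha, Matrix.mulVec, dotProduct, Fin.sum_univ_two]

/-- Reduction of a vector modulo the two relations. -/
theorem exists_reduction (hpq : p * q ∈ I) (v : Fin 2 → NodeRing R (p * q)) :
    ∃ (f g : PowerSeries R) (s t : NodeRing R (p * q)),
      v = ![NodeRing.ofX R (p * q) f, NodeRing.ofY R (p * q) g] +
        (s • ![algebraMap R (NodeRing R (p * q)) p, -NodeRing.x R (p * q)] +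
         t • ![NodeRing.y R (p * q), -algebraMap R (NodeRing R (p * q)) q]) := by
  obtain ⟨A, B, hB, h0⟩ := exists_normalForm I hpq (v 0)
  obtain ⟨A', B', hB', h1⟩ := exists_normalForm I hpq (v 1)
  -- `B = X * B₂`
  obtain ⟨B₂, rfl⟩ := PowerSeries.X_dvd_iff.mpr hB
  -- `A' = C (A' 0) + X * A₂`
  obtain ⟨A₂, hA₂⟩ : ∃ A₂ : PowerSeries R, A' = PowerSeries.X * A₂ + PowerSeries.C (PowerSeries.constantCoeff A') :=
    ⟨_, PowerSeries.eq_X_mul_shift_add_const A'⟩
  set c := PowerSeries.constantCoeff A' with hc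
  have hcc : NodeRing.ofX R (p * q) (PowerSeries.C c) = NodeRing.ofY R (p * q) (PowerSeries.C c) := by
    rw [NodeRing.ofX, NodeRing.ofY, PowerSeries.toMvPowerSeries_C, PowerSeries.toMvPowerSeries_C]
  have h1' : v 1 = NodeRing.ofY R (p * q) (PowerSeries.C c + B') +
      NodeRing.x R (p * q) * NodeRing.ofX R (p * q) A₂ := by
    rw [h1, hA₂, x_mul_ofX]
    have e1 : NodeRing.ofX R (p * q) (PowerSeries.X * A₂ + PowerSeries.C c) =
        NodeRing.ofX R (p * q) (PowerSeries.X * A₂) + NodeRing.ofX R (p * q) (PowerSeries.C c) := by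
      rw [NodeRing.ofX, map_add, map_add]
    have e2 : NodeRing.ofY R (p * q) (PowerSeries.C c + B') =
        NodeRing.ofY R (p * q) (PowerSeries.C c) + NodeRing.ofY R (p * q) B' := by
      rw [NodeRing.ofY, map_add, map_add]
    rw [e1, e2, hcc]
    ring
  have h0' : v 0 = NodeRing.ofX R (p * q) A + NodeRing.y R (p * q) * NodeRing.ofY R (p * q) B₂ := by
    rw [h0, y_mul_ofY]
  refine ⟨A + PowerSeries.C p * A₂, PowerSeries.C c + B' + PowerSeries.C q * B₂,
    -NodeRing.ofX R (p * q) A₂, NodeRing.ofY R (p * q) B₂, ?_⟩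
  have e3 : NodeRing.ofX R (p * q) (A + PowerSeries.C p * A₂) = NodeRing.ofX R (p * q) A +
      algebraMap R _ p * NodeRing.ofX R (p * q) A₂ := by
    rw [C_mul_ofX, NodeRing.ofX, map_add, map_add]
  have e4 : NodeRing.ofY R (p * q) (PowerSeries.C c + B' + PowerSeries.C q * B₂) =
      NodeRing.ofY R (p * q) (PowerSeries.C c + B') +
      algebraMap R _ q * NodeRing.ofY R (p * q) B₂ := by
    rw [C_mul_ofY, NodeRing.ofY, map_add, map_add]
  funext i
  fin_cases i
  · change v 0 = NodeRing.ofX R (p * q) (A + PowerSeries.C p * A₂) +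
      (-NodeRing.ofX R (p * q) A₂ * algebraMap R (NodeRing R (p * q)) p +
        NodeRing.ofY R (p * q) B₂ * NodeRing.y R (p * q))
    rw [h0', e3]
    ring
  · change v 1 = NodeRing.ofY R (p * q) (PowerSeries.C c + B' + PowerSeries.C q * B₂) +
      (-NodeRing.ofX R (p * q) A₂ * -NodeRing.x R (p * q) +
        NodeRing.ofY R (p * q) B₂ * -algebraMap R (NodeRing R (p * q)) q)
    rw [h1', e4]
    ring

/-- The two relations are killed by `α`. -/
lemma alpha_rel (s t : NodeRing R (p * q)) :
    Matrix.mulVec (nodeAlpha R p q)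
      (s • ![algebraMap R (NodeRing R (p * q)) p, -NodeRing.x R (p * q)] +
         t • ![NodeRing.y R (p * q), -algebraMap R (NodeRing R (p * q)) q]) = 0 := by
  have hxy : NodeRing.x R (p * q) * NodeRing.y R (p * q) =
      algebraMap R (NodeRing R (p * q)) p * algebraMap R (NodeRing R (p * q)) q :=
    (x_mul_y (p * q)).trans (map_mul (algebraMap R (NodeRing R (p * q))) p q)
  rw [mulVec_zero']
  funext i
  fin_cases i
  · change NodeRing.x R (p * q) * (s * algebraMap R (NodeRing R (p * q)) p + t * NodeRing.y R (p * q)) +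
      algebraMap R _ p * (s * -NodeRing.x R (p * q) + t * -algebraMap R (NodeRing R (p * q)) q) = 0
    linear_combination t * hxy
  · change algebraMap R _ q * (s * algebraMap R (NodeRing R (p * q)) p + t * NodeRing.y R (p * q)) +
      NodeRing.y R (p * q) * (s * -NodeRing.x R (p * q) + t * -algebraMap R (NodeRing R (p * q)) q) = 0
    linear_combination -s * hxy

lemma alpha_rel_one :
    Matrix.mulVec (nodeAlpha R p q)
      ![algebraMap R (NodeRing R (p * q)) p, -NodeRing.x R (p * q)] = 0 := by
  rw [mulVec_zero']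
  have hxy : NodeRing.x R (p * q) * NodeRing.y R (p * q) =
      algebraMap R (NodeRing R (p * q)) p * algebraMap R (NodeRing R (p * q)) q :=
    (x_mul_y (p * q)).trans (map_mul (algebraMap R (NodeRing R (p * q))) p q)
  funext i
  fin_cases i
  · change NodeRing.x R (p * q) * algebraMap R (NodeRing R (p * q)) p +
      algebraMap R _ p * -NodeRing.x R (p * q) = 0
    ring
  · change algebraMap R _ q * algebraMap R (NodeRing R (p * q)) p +
      NodeRing.y R (p * q) * -NodeRing.x R (p * q) = 0
    linear_combination -hxy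

lemma alpha_rel_two :
    Matrix.mulVec (nodeAlpha R p q)
      ![NodeRing.y R (p * q), -algebraMap R (NodeRing R (p * q)) q] = 0 := by
  rw [mulVec_zero']
  have hxy : NodeRing.x R (p * q) * NodeRing.y R (p * q) =
      algebraMap R (NodeRing R (p * q)) p * algebraMap R (NodeRing R (p * q)) q :=
    (x_mul_y (p * q)).trans (map_mul (algebraMap R (NodeRing R (p * q))) p q)
  funext i
  fin_cases i
  · change NodeRing.x R (p * q) * NodeRing.y R (p * q) +
      algebraMap R _ p * -algebraMap R (NodeRing R (p * q)) q = 0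
    linear_combination hxy
  · change algebraMap R _ q * NodeRing.y R (p * q) +
      NodeRing.y R (p * q) * -algebraMap R (NodeRing R (p * q)) q = 0
    ring

/-- `α(f(x), g(y)) = 0` only for `f = 0`, `g = 0`. -/
theorem eq_zero_of_alpha (hpq : p * q ∈ I) {f g : PowerSeries R}
    (h : Matrix.mulVec (nodeAlpha R p q) ![NodeRing.ofX R (p * q) f, NodeRing.ofY R (p * q) g] = 0) :
    f = 0 ∧ g = 0 := by
  rw [mulVec_zero'] at h
  have h0 : NodeRing.x R (p * q) * NodeRing.ofX R (p * q) f +
      algebraMap R _ p * NodeRing.ofY R (p * q) g = 0 := congrFun h 0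
  have h1 : algebraMap R _ q * NodeRing.ofX R (p * q) f +
      NodeRing.y R (p * q) * NodeRing.ofY R (p * q) g = 0 := congrFun h 1
  rw [x_mul_ofX, C_mul_ofY] at h0
  rw [C_mul_ofX, y_mul_ofY] at h1
  constructor
  · ext m
    have := (normalForm_unique I hpq h0 (m + 1) (by omega)).1
    rwa [PowerSeries.coeff_succ_X_mul] at this
  · ext m
    have := (normalForm_unique I hpq h1 (m + 1) (by omega)).2
    rwa [PowerSeries.coeff_succ_X_mul] at this

end K955.NodeAlpha
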