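import Groth.Prelude.Def_W4c5spincurvestfNode
import Mathlib.RingTheory.AdicCompletion.Basic
import Mathlib.RingTheory.PowerSeries.Substitution
import Mathlib.Tactic

/-!
# Normal forms in `R[[x, y]]/(xy - π)`, `π` topologically nilpotent
-/

set_option autoImplicit false

universe u

namespace K955.NodeCoord

open SpinCurv

section Sum

variable {R : Type u} [CommRing R] (I : Ideal R) [IsAdicComplete I R] {π : R}

lemma mem_pow_of_smodEq {x y : R} {n : ℕ} (h : x ≡ y [SMOD (I ^ n • ⊤ : Submodule R R)]) :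
    x - y ∈ I ^ n := by
  rw [SModEq.sub_mem, smul_eq_mul, Ideal.mul_top] at h
  exact h

lemma smodEq_of_mem_pow {x y : R} {n : ℕ} (h : x - y ∈ I ^ n) :
    x ≡ y [SMOD (I ^ n • ⊤ : Submodule R R)] := by
  rw [SModEq.sub_mem, smul_eq_mul, Ideal.mul_top]
  exact h

lemma eq_zero_of_forall_mem {x : R} (h : ∀ n, x ∈ I ^ n) : x = 0 :=
  IsHausdorff.haus (inferInstance : IsHausdorff I R) x fun n =>
    smodEq_of_mem_pow I (by rw [sub_zero]; exact h n)

/-- `∑ c i π ^ i` converges. -/
lemma exists_sum (hπ : π ∈ I) (c : ℕ → R) :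
    ∃ L : R, ∀ n, (L - ∑ i ∈ Finset.range n, c i * π ^ i) ∈ I ^ n := by
  obtain ⟨L, hL⟩ := IsPrecomplete.prec (inferInstance : IsPrecomplete I R)
    (f := fun n => ∑ i ∈ Finset.range n, c i * π ^ i) (by
      intro m n hmn
      apply smodEq_of_mem_pow
      obtain ⟨k, rfl⟩ := Nat.exists_eq_add_of_le hmn
      rw [Finset.sum_range_add, sub_add_cancel_left, neg_mem_iff]
      refine Ideal.sum_mem _ fun i _ => ?_
      rw [pow_add, ← mul_assoc, mul_comm (c _) _, mul_assoc]
      exact Ideal.mul_mem_right _ _ (Ideal.pow_mem_pow hπ m))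
  refine ⟨L, fun n => ?_⟩
  have := mem_pow_of_smodEq I (hL n)
  rw [← neg_mem_iff, neg_sub]
  exact this

/-- The sum `∑ c i π ^ i`. -/
noncomputable def tsumπ (hπ : π ∈ I) (c : ℕ → R) : R := (exists_sum I hπ c).choose

lemma tsumπ_spec (hπ : π ∈ I) (c : ℕ → R) (n : ℕ) :
    tsumπ I hπ c - ∑ i ∈ Finset.range n, c i * π ^ i ∈ I ^ n := (exists_sum I hπ c).choose_spec n

lemma tsumπ_eq (hπ : π ∈ I) (c : ℕ → R) :
    tsumπ I hπ c = c 0 + π * tsumπ I hπ (fun i => c (i + 1)) := by
  rw [← sub_eq_zero]
  apply eq_zero_of_forall_mem I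
  intro n
  have h1 := Ideal.pow_le_pow_right (Nat.le_succ n) (tsumπ_spec I hπ c (n + 1))
  have h2 := Ideal.mul_mem_left _ π (tsumπ_spec I hπ (fun i => c (i + 1)) n)
  have h3 := Ideal.sub_mem _ h1 h2
  convert h3 using 1
  rw [Finset.sum_range_succ', mul_sub, Finset.mul_sum]
  have h4 : ∑ i ∈ Finset.range n, π * (c (i + 1) * π ^ i) = ∑ i ∈ Finset.range n, c (i + 1) * π ^ (i + 1) :=
    Finset.sum_congr rfl fun i _ => by ring
  rw [h4, pow_zero, mul_one]
  ring

end Sum

section Coeff

variable {R : Type u} [CommRing R]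

/-- The exponent `x ^ a y ^ b`. -/
noncomputable def ix (a b : ℕ) : Fin 2 →₀ ℕ := Finsupp.single 0 a + Finsupp.single 1 b

@[simp] lemma ix_zero (a b : ℕ) : ix a b 0 = a := by simp [ix]
@[simp] lemma ix_one (a b : ℕ) : ix a b 1 = b := by simp [ix]

lemma eq_ix (d : Fin 2 →₀ ℕ) : d = ix (d 0) (d 1) := by
  ext i
  fin_cases i
  · simp
  · simp

/-- The coefficient of `x ^ a y ^ b`. -/
noncomputable def cf (a b : ℕ) : MvPowerSeries (Fin 2) R →ₗ[R] R := MvPowerSeries.coeff (ix a b)

lemma cf_ext {f g : MvPowerSeries (Fin 2) R} (h : ∀ a b, cf a b f = cf a b g) : f = g := by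
  ext d
  rw [eq_ix d]
  exact h _ _

lemma cf_toMv_zero (f : PowerSeries R) (a b : ℕ) :
    cf a b (PowerSeries.toMvPowerSeries 0 f) = if b = 0 then PowerSeries.coeff a f else 0 := by
  classical
  rw [cf, PowerSeries.toMvPowerSeries_eq_subst, PowerSeries.coeff_subst (PowerSeries.HasSubst.X _)]
  rw [finsum_eq_single _ a]
  · rw [MvPowerSeries.coeff_X_pow, smul_eq_mul]
    by_cases hb : b = 0
    · subst hb
      rw [if_pos, if_pos rfl, mul_one]
      rw [ix, Finsupp.single_zero, add_zero]
    · rw [if_neg, if_neg hb, mul_zero]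
      intro h
      have := congrArg (fun g => g 1) h
      simp at this
      exact hb this
  · intro n hn
    rw [MvPowerSeries.coeff_X_pow, if_neg, smul_zero]
    intro h
    have := congrArg (fun g => g 0) h
    simp at this
    exact hn this.symm

lemma cf_toMv_one (f : PowerSeries R) (a b : ℕ) :
    cf a b (PowerSeries.toMvPowerSeries 1 f) = if a = 0 then PowerSeries.coeff b f else 0 := by
  classical
  rw [cf, PowerSeries.toMvPowerSeries_eq_subst, PowerSeries.coeff_subst (PowerSeries.HasSubst.X _)]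
  rw [finsum_eq_single _ b]
  · rw [MvPowerSeries.coeff_X_pow, smul_eq_mul]
    by_cases hb : a = 0
    · subst hb
      rw [if_pos, if_pos rfl, mul_one]
      rw [ix, Finsupp.single_zero, zero_add]
    · rw [if_neg, if_neg hb, mul_zero]
      intro h
      have := congrArg (fun g => g 0) h
      simp at this
      exact hb this
  · intro n hn
    rw [MvPowerSeries.coeff_X_pow, if_neg, smul_zero]
    intro h
    have := congrArg (fun g => g 1) h
    simp at this
    exact hn this.symm

lemma X_mul_X : (MvPowerSeries.X 0 * MvPowerSeries.X 1 : MvPowerSeries (Fin 2) R) =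
    MvPowerSeries.monomial (ix 1 1) 1 := by
  rw [MvPowerSeries.X, MvPowerSeries.X, MvPowerSeries.monomial_mul_monomial, one_mul]
  rfl

lemma cf_XX_mul_succ (H : MvPowerSeries (Fin 2) R) (a b : ℕ) :
    cf (a + 1) (b + 1) (MvPowerSeries.X 0 * MvPowerSeries.X 1 * H) = cf a b H := by
  have h : ix (a + 1) (b + 1) = ix 1 1 + ix a b := by
    rw [eq_ix (ix 1 1 + ix a b)]
    simp [add_comm]
  rw [cf, X_mul_X, h, MvPowerSeries.coeff_add_monomial_mul, one_mul]
  rfl

lemma cf_XX_mul_left (H : MvPowerSeries (Fin 2) R) (b : ℕ) :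
    cf 0 b (MvPowerSeries.X 0 * MvPowerSeries.X 1 * H) = 0 := by
  classical
  rw [cf, X_mul_X, MvPowerSeries.coeff_monomial_mul, if_neg]
  intro h
  have := h 0
  simp at this

lemma cf_XX_mul_right (H : MvPowerSeries (Fin 2) R) (a : ℕ) :
    cf a 0 (MvPowerSeries.X 0 * MvPowerSeries.X 1 * H) = 0 := by
  classical
  rw [cf, X_mul_X, MvPowerSeries.coeff_monomial_mul, if_neg]
  intro h
  have := h 1
  simp at this

lemma cf_C_mul (r : R) (H : MvPowerSeries (Fin 2) R) (a b : ℕ) :
    cf a b (MvPowerSeries.C r * H) = r * cf a b H := by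
  rw [cf, MvPowerSeries.coeff_C_mul]

end Coeff

section Normal

variable {R : Type u} [CommRing R] (I : Ideal R) [IsAdicComplete I R] {π : R}

/-- Existence of the normal form. -/
theorem exists_normalForm (hπ : π ∈ I) (a : NodeRing R π) :
    ∃ A B : PowerSeries R, PowerSeries.constantCoeff B = 0 ∧
      a = NodeRing.ofX R π A + NodeRing.ofY R π B := by
  obtain ⟨f, rfl⟩ := Ideal.Quotient.mk_surjective a
  let H : MvPowerSeries (Fin 2) R := fun d =>
    tsumπ I hπ fun i => cf (d 0 + 1 + i) (d 1 + 1 + i) f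
  have hH : ∀ a b, cf a b H = tsumπ I hπ fun i => cf (a + 1 + i) (b + 1 + i) f := by
    intro a b
    change tsumπ I hπ (fun i => cf (ix a b 0 + 1 + i) (ix a b 1 + 1 + i) f) = _
    rw [ix_zero, ix_one]
  let A : PowerSeries R := PowerSeries.mk fun m => tsumπ I hπ fun i => cf (m + i) i f
  let B : PowerSeries R := PowerSeries.mk fun m =>
    if m = 0 then 0 else tsumπ I hπ fun i => cf i (m + i) f
  refine ⟨A, B, ?_, ?_⟩
  · rw [← PowerSeries.coeff_zero_eq_constantCoeff_apply]
    simp [B]
  · have key : f = (MvPowerSeries.X 0 * MvPowerSeries.X 1 - MvPowerSeries.C π) * H +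
        (PowerSeries.toMvPowerSeries 0 A + PowerSeries.toMvPowerSeries 1 B) := by
      apply cf_ext
      intro a b
      rw [map_add, map_add, sub_mul, map_sub, cf_C_mul, cf_toMv_zero, cf_toMv_one, hH]
      rcases b with _ | b
      · rw [cf_XX_mul_right, if_pos rfl]
        have hA : PowerSeries.coeff a A = cf a 0 f +
            π * tsumπ I hπ (fun i => cf (a + 1 + i) (0 + 1 + i) f) := by
          simp only [A, PowerSeries.coeff_mk]
          rw [tsumπ_eq]
          congr 3
          funext i
          congr 2 <;> ring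
        have hB : PowerSeries.coeff 0 B = 0 := by simp [B]
        rw [hA, hB, ite_self]
        ring
      · rcases a with _ | a
        · rw [cf_XX_mul_left, if_neg (by omega), if_pos rfl]
          have hB : PowerSeries.coeff (b + 1) B = cf 0 (b + 1) f +
              π * tsumπ I hπ (fun i => cf (0 + 1 + i) (b + 1 + 1 + i) f) := by
            simp only [B, PowerSeries.coeff_mk, if_neg (Nat.succ_ne_zero b)]
            rw [tsumπ_eq]
            congr 3
            funext i
            congr 2 <;> ring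
          rw [hB]
          ring
        · rw [cf_XX_mul_succ, if_neg (by omega), if_neg (by omega), hH, tsumπ_eq]
          have : (fun i => cf (a + 1 + (i + 1)) (b + 1 + (i + 1)) f) =
              fun i => cf (a + 1 + 1 + i) (b + 1 + 1 + i) f := by
            funext i
            congr 2 <;> ring
          rw [this]
          simp only [add_zero]
          ring
    conv_lhs => rw [key]
    rw [map_add, map_mul, map_add]
    have h0 : (Ideal.Quotient.mk (Ideal.span {(MvPowerSeries.X 0 * MvPowerSeries.X 1 -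
        MvPowerSeries.C π : MvPowerSeries (Fin 2) R)})) (MvPowerSeries.X 0 * MvPowerSeries.X 1 -
        MvPowerSeries.C π) = 0 := by
      rw [Ideal.Quotient.eq_zero_iff_mem]
      exact Ideal.subset_span rfl
    rw [h0, zero_mul, zero_add]

/-- Uniqueness of the normal form (up to the constants). -/
theorem normalForm_unique (hπ : π ∈ I) {A B : PowerSeries R}
    (h : NodeRing.ofX R π A + NodeRing.ofY R π B = 0) (m : ℕ) (hm : m ≠ 0) :
    PowerSeries.coeff m A = 0 ∧ PowerSeries.coeff m B = 0 := by
  rw [← map_add, Ideal.Quotient.eq_zero_iff_mem, Ideal.mem_span_singleton'] at h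
  obtain ⟨H, hH⟩ := h
  have hc : ∀ a b, cf a b (PowerSeries.toMvPowerSeries 0 A + PowerSeries.toMvPowerSeries 1 B) =
      cf a b (MvPowerSeries.X 0 * MvPowerSeries.X 1 * H) - π * cf a b H := by
    intro a b
    rw [← hH, mul_sub, mul_comm H, mul_comm H, map_sub, cf_C_mul]
  constructor
  · apply eq_zero_of_forall_mem I
    have key : ∀ J : ℕ, PowerSeries.coeff m A = -(π ^ (J + 1) * cf (m + J) J H) := by
      intro J
      induction J with
      | zero =>
        have h1 := hc m 0
        rw [cf_XX_mul_right, map_add, cf_toMv_zero, cf_toMv_one, if_pos rfl, if_neg hm, add_zero] at h1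
        rw [h1]
        simp
      | succ J ih =>
        have h1 := hc (m + J + 1) (J + 1)
        rw [cf_XX_mul_succ, map_add, cf_toMv_zero, cf_toMv_one, if_neg (by omega),
          if_neg (by omega), add_zero] at h1
        rw [ih, show m + (J + 1) = m + J + 1 by ring, pow_succ π (J + 1)]
        linear_combination π ^ (J + 1) * h1
    intro n
    rw [key n]
    exact neg_mem (Ideal.mul_mem_right _ _
      (Ideal.pow_le_pow_right (Nat.le_succ n) (Ideal.pow_mem_pow hπ _)))
  · apply eq_zero_of_forall_mem I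
    have key : ∀ J : ℕ, PowerSeries.coeff m B = -(π ^ (J + 1) * cf J (m + J) H) := by
      intro J
      induction J with
      | zero =>
        have h1 := hc 0 m
        rw [cf_XX_mul_left, map_add, cf_toMv_zero, cf_toMv_one, if_pos rfl, if_neg hm, zero_add] at h1
        rw [h1]
        simp
      | succ J ih =>
        have h1 := hc (J + 1) (m + J + 1)
        rw [cf_XX_mul_succ, map_add, cf_toMv_zero, cf_toMv_one, if_neg (by omega),
          if_neg (by omega), add_zero] at h1
        rw [ih, show m + (J + 1) = m + J + 1 by ring, pow_succ π (J + 1)]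
        linear_combination π ^ (J + 1) * h1
    intro n
    rw [key n]
    exact neg_mem (Ideal.mul_mem_right _ _
      (Ideal.pow_le_pow_right (Nat.le_succ n) (Ideal.pow_mem_pow hπ _)))

end Normal

section Basic

variable {R : Type u} [CommRing R] (π : R)

lemma x_mul_ofX (A : PowerSeries R) :
    NodeRing.x R π * NodeRing.ofX R π A = NodeRing.ofX R π (PowerSeries.X * A) := by
  rw [NodeRing.ofX, NodeRing.ofX, map_mul, PowerSeries.toMvPowerSeries_X, map_mul]

lemma y_mul_ofY (A : PowerSeries R) :
    NodeRing.y R π * NodeRing.ofY R π A = NodeRing.ofY R π (PowerSeries.X * A) := by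
  rw [NodeRing.ofY, NodeRing.ofY, map_mul, PowerSeries.toMvPowerSeries_X, map_mul]

lemma C_mul_ofX (r : R) (A : PowerSeries R) :
    algebraMap R (NodeRing R π) r * NodeRing.ofX R π A = NodeRing.ofX R π (PowerSeries.C r * A) := by
  rw [NodeRing.ofX, NodeRing.ofX, map_mul, PowerSeries.toMvPowerSeries_C, map_mul]
  rfl

lemma C_mul_ofY (r : R) (A : PowerSeries R) :
    algebraMap R (NodeRing R π) r * NodeRing.ofY R π A = NodeRing.ofY R π (PowerSeries.C r * A) := by
  rw [NodeRing.ofY, NodeRing.ofY, map_mul, PowerSeries.toMvPowerSeries_C, map_mul]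
  rfl

lemma x_mul_y : NodeRing.x R π * NodeRing.y R π = algebraMap R (NodeRing R π) π := by
  change Ideal.Quotient.mk _ (MvPowerSeries.X 0) * Ideal.Quotient.mk _ (MvPowerSeries.X 1) =
    Ideal.Quotient.mk _ (MvPowerSeries.C π)
  rw [← map_mul, Ideal.Quotient.eq]
  exact Ideal.subset_span rfl

end Basic

end K955.NodeCoord
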