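import Groth.Agent.SpinCurv.K955.PolyCoord

/-!
# Sections of the twisting sheaves on the blown-up node, in coordinates
-/

set_option autoImplicit false

universe u

namespace K955.Twist

open SpinCurv K955.PolyCoord

variable {R : Type u} [CommRing R]

/-- The coefficient functional on Laurent polynomials. -/
noncomputable def coeffL (R : Type u) [CommRing R] (m : ℤ) : LaurentPolynomial R →ₗ[R] R where
  toFun f := f.coeff m
  map_add' _ _ := rfl
  map_smul' _ _ := rfl

lemma coeffL_apply (m : ℤ) (f : LaurentPolynomial R) : coeffL R m f = f.coeff m := rfl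

lemma coeffL_C_mul_T (a : R) (n m : ℤ) :
    coeffL R m (LaurentPolynomial.C a * LaurentPolynomial.T n) = if n = m then a else 0 := by
  rw [← LaurentPolynomial.smul_eq_C_mul, map_smul, coeffL_apply, LaurentPolynomial.T_apply,
    smul_eq_mul, mul_ite, mul_one, mul_zero]

lemma coeff_T_mul (n m : ℤ) (f : LaurentPolynomial R) :
    (LaurentPolynomial.T n * f).coeff m = f.coeff (m - n) := by
  rw [LaurentPolynomial.T, AddMonoidAlgebra.coeff_single_mul_eq_mul_coeff (m - n), one_mul]
  intro a _
  constructor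
  · rintro rfl; ring
  · rintro rfl; ring

section Chart

variable {q p : R}

/-- the restriction `U → U ∩ V` in coordinates -/
lemma coeff_gU (gU : PolyNodeRing R q →ₐ[R] LaurentPolynomial R)
    (hgUs : gU (PolyNodeRing.x R q) = LaurentPolynomial.T 1)
    (hgUy : gU (PolyNodeRing.y R q) = LaurentPolynomial.C q * LaurentPolynomial.T (-1))
    (g : PolyNodeRing R q) (m : ℤ) :
    (gU g).coeff m = q ^ (-m).toNat * toZ R q g m := by
  have h : coeffL R m ∘ₗ gU.toLinearMap = q ^ (-m).toNat • (Finsupp.lapply m ∘ₗ toZ R q) := by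
    apply hom_ext
    intro k
    simp only [LinearMap.comp_apply, AlgHom.toLinearMap_apply, LinearMap.smul_apply,
      Finsupp.lapply_apply, toZ_bas]
    rw [bas, map_mul, map_pow, map_pow, hgUs, hgUy, mul_pow, ← map_pow, LaurentPolynomial.T_pow,
      LaurentPolynomial.T_pow, mul_left_comm, ← LaurentPolynomial.T_add, coeffL_C_mul_T,
      Finsupp.single_apply, smul_eq_mul, mul_ite, mul_zero]
    have h1 : ((k.toNat : ℤ) * 1 + ((-k).toNat : ℤ) * (-1)) = k := by omega
    rw [h1]
    by_cases hk : k = m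
    · subst hk; rw [if_pos rfl, if_pos rfl, mul_one]
    · rw [if_neg hk, if_neg hk]
  exact LinearMap.congr_fun h g

/-- the restriction `V → U ∩ V` in coordinates -/
lemma coeff_gV (gV : PolyNodeRing R p →ₐ[R] LaurentPolynomial R)
    (hgVt : gV (PolyNodeRing.x R p) = LaurentPolynomial.T (-1))
    (hgVx : gV (PolyNodeRing.y R p) = LaurentPolynomial.C p * LaurentPolynomial.T 1)
    (f : PolyNodeRing R p) (m : ℤ) :
    (gV f).coeff m = p ^ m.toNat * toZ R p f (-m) := by
  have h : coeffL R m ∘ₗ gV.toLinearMap = p ^ m.toNat • (Finsupp.lapply (-m) ∘ₗ toZ R p) := by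
    apply hom_ext
    intro k
    simp only [LinearMap.comp_apply, AlgHom.toLinearMap_apply, LinearMap.smul_apply,
      Finsupp.lapply_apply, toZ_bas]
    rw [bas, map_mul, map_pow, map_pow, hgVt, hgVx, mul_pow, ← map_pow, LaurentPolynomial.T_pow,
      LaurentPolynomial.T_pow, mul_left_comm, ← LaurentPolynomial.T_add, coeffL_C_mul_T,
      Finsupp.single_apply, smul_eq_mul, mul_ite, mul_zero]
    have h1 : ((k.toNat : ℤ) * (-1) + ((-k).toNat : ℤ) * 1) = -k := by omega
    rw [h1]
    by_cases hk : -k = m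
    · subst hk; rw [if_pos rfl, if_pos (by ring), mul_one]
    · rw [if_neg hk, if_neg (fun h => hk (by rw [h]; ring))]
  exact LinearMap.congr_fun h f

variable (q p)

/-- The condition that a pair of functions is a section of `O(n)`, in coordinates. -/
def Cond (n : ℤ) (g : PolyNodeRing R q) (f : PolyNodeRing R p) : Prop :=
  ∀ m : ℤ, q ^ (-m).toNat * toZ R q g m = p ^ (m - n).toNat * toZ R p f (n - m)

variable {q p}

lemma cond_iff (gU : PolyNodeRing R q →ₐ[R] LaurentPolynomial R)
    (hgUs : gU (PolyNodeRing.x R q) = LaurentPolynomial.T 1)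
    (hgUy : gU (PolyNodeRing.y R q) = LaurentPolynomial.C q * LaurentPolynomial.T (-1))
    (gV : PolyNodeRing R p →ₐ[R] LaurentPolynomial R)
    (hgVt : gV (PolyNodeRing.x R p) = LaurentPolynomial.T (-1))
    (hgVx : gV (PolyNodeRing.y R p) = LaurentPolynomial.C p * LaurentPolynomial.T 1)
    (n : ℤ) (g : PolyNodeRing R q) (f : PolyNodeRing R p) :
    gU g = LaurentPolynomial.T n * gV f ↔ Cond q p n g f := by
  constructor
  · intro h m
    rw [← coeff_gU gU hgUs hgUy, h, coeff_T_mul, coeff_gV gV hgVt hgVx, neg_sub]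
  · intro h
    apply LaurentPolynomial.ext
    intro m
    rw [coeff_gU gU hgUs hgUy, h m, coeff_T_mul, coeff_gV gV hgVt hgVx, neg_sub]

variable (q p)

/-- The parametrisation of the sections, `U`-component. -/
noncomputable def thetaU (n : ℤ) : (ℤ →₀ R) →ₗ[R] PolyNodeRing R q :=
  Finsupp.linearCombination R fun k : ℤ => p ^ (-k).toNat • bas R q (n - k)

/-- The parametrisation of the sections, `V`-component. -/
noncomputable def thetaV (n : ℤ) : (ℤ →₀ R) →ₗ[R] PolyNodeRing R p :=
  Finsupp.linearCombination R fun k : ℤ => q ^ (k - n).toNat • bas R p k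

lemma toZ_thetaU (n : ℤ) (c : ℤ →₀ R) (m : ℤ) :
    toZ R q (thetaU q p n c) m = p ^ (m - n).toNat * c (n - m) := by
  have h : Finsupp.lapply m ∘ₗ toZ R q ∘ₗ thetaU q p n =
      p ^ (m - n).toNat • (Finsupp.lapply (n - m) : (ℤ →₀ R) →ₗ[R] R) := by
    refine Finsupp.lhom_ext' fun k => LinearMap.ext_ring ?_
    simp only [LinearMap.comp_apply, Finsupp.lsingle_apply, thetaU,
      Finsupp.linearCombination_single, one_smul, LinearMap.smul_apply, Finsupp.lapply_apply,
      map_smul, toZ_bas, Finsupp.single_apply, smul_eq_mul, mul_ite, mul_one,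
      mul_zero]
    by_cases hk : k = n - m
    · subst hk
      rw [if_pos (by ring), if_pos rfl, neg_sub]
    · rw [if_neg (fun h => hk (by rw [← h]; ring)), if_neg hk]
  exact LinearMap.congr_fun h c

lemma toZ_thetaV (n : ℤ) (c : ℤ →₀ R) (m : ℤ) :
    toZ R p (thetaV q p n c) m = q ^ (m - n).toNat * c m := by
  have h : Finsupp.lapply m ∘ₗ toZ R p ∘ₗ thetaV q p n =
      q ^ (m - n).toNat • (Finsupp.lapply m : (ℤ →₀ R) →ₗ[R] R) := by
    refine Finsupp.lhom_ext' fun k => LinearMap.ext_ring ?_
    simp only [LinearMap.comp_apply, Finsupp.lsingle_apply, thetaV,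
      Finsupp.linearCombination_single, one_smul, LinearMap.smul_apply, Finsupp.lapply_apply,
      map_smul, toZ_bas, Finsupp.single_apply, smul_eq_mul, mul_ite, mul_one,
      mul_zero]
    by_cases hk : k = m
    · subst hk
      simp
    · rw [if_neg hk, if_neg hk]
  exact LinearMap.congr_fun h c

lemma cond_theta (n : ℤ) (c : ℤ →₀ R) : Cond q p n (thetaU q p n c) (thetaV q p n c) := by
  intro m
  rw [toZ_thetaU, toZ_thetaV]
  have : n - m - n = -m := by ring
  rw [this]
  ring

lemma theta_injective {n : ℤ} (hn : -1 ≤ n) {c : ℤ →₀ R} (h1 : thetaU q p n c = 0)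
    (h2 : thetaV q p n c = 0) : c = 0 := by
  ext k
  rcases le_or_gt 0 k with hk | hk
  · have h3 := toZ_thetaU q p n c (n - k)
    rw [h1, map_zero] at h3
    have h4 : (n - k - n).toNat = 0 := by omega
    rw [h4, pow_zero, one_mul, sub_sub_cancel] at h3
    exact h3.symm
  · have h3 := toZ_thetaV q p n c k
    rw [h2, map_zero] at h3
    have h4 : (k - n).toNat = 0 := by omega
    rw [h4, pow_zero, one_mul] at h3
    exact h3.symm

lemma exists_theta {n : ℤ} (hn : -1 ≤ n) {g : PolyNodeRing R q} {f : PolyNodeRing R p}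
    (h : Cond q p n g f) : ∃ c : ℤ →₀ R, thetaU q p n c = g ∧ thetaV q p n c = f := by
  classical
  let c : ℤ →₀ R := (Finsupp.equivMapDomain (Equiv.subLeft n) (toZ R q g)).filter (fun k => 0 ≤ k) +
    (toZ R p f).filter (fun k => k < 0)
  have hc0 : ∀ k, 0 ≤ k → c k = toZ R q g (n - k) := by
    intro k hk
    simp only [c, Finsupp.add_apply, Finsupp.filter_apply, if_pos hk, Finsupp.equivMapDomain_apply]
    rw [if_neg (by omega), add_zero]
    congr 1
    rw [Equiv.symm_apply_eq, Equiv.subLeft_apply]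
    ring
  have hc1 : ∀ k, k < 0 → c k = toZ R p f k := by
    intro k hk
    simp only [c, Finsupp.add_apply, Finsupp.filter_apply, if_pos hk]
    rw [if_neg (by omega), zero_add]
  refine ⟨c, ext_toZ R q fun m => ?_, ext_toZ R p fun m => ?_⟩
  · rw [toZ_thetaU]
    rcases le_or_gt 0 (n - m) with hm | hm
    · rw [hc0 _ hm, sub_sub_cancel]
      have h4 : (m - n).toNat = 0 := by omega
      rw [h4, pow_zero, one_mul]
    · rw [hc1 _ hm, ← h m]
      have h4 : (-m).toNat = 0 := by omega
      rw [h4, pow_zero, one_mul]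
  · rw [toZ_thetaV]
    rcases le_or_gt 0 m with hm | hm
    · rw [hc0 _ hm]
      have h3 := h (n - m)
      rw [sub_sub_cancel, neg_sub] at h3
      rw [h3]
      have h4 : (n - m - n).toNat = 0 := by omega
      rw [h4, pow_zero, one_mul]
    · rw [hc1 _ hm]
      have h4 : (m - n).toNat = 0 := by omega
      rw [h4, pow_zero, one_mul]

end Chart

end K955.Twist
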