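import Groth.Agent.SpinCurv.K955.Twist

/-!
# The global sections of `O(n)` on the blown-up node as a module over the node
-/

set_option autoImplicit false

universe u

namespace K955.RangeKer

open SpinCurv K955.PolyCoord K955.Twist

variable {R : Type u} [CommRing R] {p q : R}

section Alg

/-- Algebra maps out of `R[x, y]/(xy - π)` are determined by the images of the two variables. -/
lemma algHom_ext' {π : R} {B : Type*} [CommRing B] [Algebra R B]
    {f g : PolyNodeRing R π →ₐ[R] B} (hx : f (PolyNodeRing.x R π) = g (PolyNodeRing.x R π))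
    (hy : f (PolyNodeRing.y R π) = g (PolyNodeRing.y R π)) : f = g := by
  apply Ideal.Quotient.algHom_ext
  apply MvPolynomial.algHom_ext
  intro i
  fin_cases i
  · exact hx
  · exact hy

end Alg

/-- The relations. -/
noncomputable def rel (n : ℕ) : Submodule (PolyNodeRing R (p * q)) (Fin (n + 1) → PolyNodeRing R (p * q)) :=
  Submodule.span (PolyNodeRing R (p * q))
    (Set.range (fun i : Fin n =>
        (Pi.single (Fin.castSucc i) (algebraMap R (PolyNodeRing R (p * q)) p) -
          Pi.single (Fin.succ i) (PolyNodeRing.x R (p * q)) : Fin (n + 1) → PolyNodeRing R (p * q))) ∪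
     Set.range (fun i : Fin n =>
        (Pi.single (Fin.castSucc i) (PolyNodeRing.y R (p * q)) -
          Pi.single (Fin.succ i) (algebraMap R (PolyNodeRing R (p * q)) q) : Fin (n + 1) → PolyNodeRing R (p * q))))

/-- The distinguished elements of `A ^ (n + 1)`. -/
noncomputable def w (p q : R) (n : ℕ) (k : ℤ) : Fin (n + 1) → PolyNodeRing R (p * q) :=
  Pi.single ⟨(min k n).toNat, by omega⟩
    (PolyNodeRing.x R (p * q) ^ (-k).toNat * PolyNodeRing.y R (p * q) ^ (k - n).toNat)

noncomputable def sigma (p q : R) (n : ℕ) : (ℤ →₀ R) →ₗ[R] (Fin (n + 1) → PolyNodeRing R (p * q)) :=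
  Finsupp.linearCombination R (w p q n)

lemma w_mem (n : ℕ) (k : ℤ) : w p q n k ∈ LinearMap.range (sigma p q n) :=
  ⟨Finsupp.single k 1, by rw [sigma, Finsupp.linearCombination_single, one_smul]⟩

/-- `R`-submodule spanned by relations and distinguished elements. -/
noncomputable def tot (p q : R) (n : ℕ) : Submodule R (Fin (n + 1) → PolyNodeRing R (p * q)) :=
  (rel (p := p) (q := q) n).restrictScalars R ⊔ LinearMap.range (sigma p q n)

lemma rel_le (n : ℕ) {F : Fin (n + 1) → PolyNodeRing R (p * q)} (h : F ∈ rel (p := p) (q := q) n) :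
    F ∈ tot p q n := Submodule.mem_sup_left h

lemma w_mem' (n : ℕ) (k : ℤ) : w p q n k ∈ tot p q n := Submodule.mem_sup_right (w_mem n k)

lemma single_x_mem (n : ℕ) (i : ℕ) (hi : i < n + 1) (a : ℕ) :
    (Pi.single ⟨i, hi⟩ (PolyNodeRing.x R (p * q) ^ a) : Fin (n + 1) → PolyNodeRing R (p * q)) ∈
      tot p q n := by
  induction i generalizing a with
  | zero =>
    have h := w_mem' (p := p) (q := q) n (-(a : ℤ))
    have h1 : w p q n (-(a : ℤ)) = Pi.single ⟨0, hi⟩ (PolyNodeRing.x R (p * q) ^ a) := by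
      rw [w]
      have e1 : (- -(a : ℤ)).toNat = a := by omega
      have e2 : (-(a : ℤ) - n).toNat = 0 := by omega
      have e3 : (⟨(min (-(a : ℤ)) n).toNat, by omega⟩ : Fin (n + 1)) = ⟨0, hi⟩ :=
        Fin.ext (by simp only; omega)
      rw [e1, e2, e3, pow_zero, mul_one]
    rwa [h1] at h
  | succ i ih =>
    cases a with
    | zero =>
      have h := w_mem' (p := p) (q := q) n ((i + 1 : ℕ) : ℤ)
      have h1 : w p q n ((i + 1 : ℕ) : ℤ) = Pi.single ⟨i + 1, hi⟩ (PolyNodeRing.x R (p * q) ^ 0) := by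
        rw [w]
        have e1 : (-((i + 1 : ℕ) : ℤ)).toNat = 0 := by omega
        have e2 : (((i + 1 : ℕ) : ℤ) - n).toNat = 0 := by omega
        have e3 : (⟨(min ((i + 1 : ℕ) : ℤ) n).toNat, by omega⟩ : Fin (n + 1)) = ⟨i + 1, hi⟩ :=
          Fin.ext (by simp only; omega)
        rw [e1, e2, e3, pow_zero, pow_zero, mul_one]
      rwa [h1] at h
    | succ a =>
      have h1 := ih (by omega) a
      let j : Fin n := ⟨i, by omega⟩
      have h2 : (PolyNodeRing.x R (p * q) ^ a) •
          (Pi.single (Fin.castSucc j) (algebraMap R (PolyNodeRing R (p * q)) p) -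
          Pi.single (Fin.succ j) (PolyNodeRing.x R (p * q)) : Fin (n + 1) → PolyNodeRing R (p * q)) ∈
          rel (p := p) (q := q) n :=
        Submodule.smul_mem _ _ (Submodule.subset_span (Or.inl ⟨j, rfl⟩))
      have h3 := (tot p q n).sub_mem ((tot p q n).smul_mem p h1) (rel_le n h2)
      have h4 : p • (Pi.single ⟨i, by omega⟩ (PolyNodeRing.x R (p * q) ^ a) :
          Fin (n + 1) → PolyNodeRing R (p * q)) - (PolyNodeRing.x R (p * q) ^ a) •
          (Pi.single (Fin.castSucc j) (algebraMap R (PolyNodeRing R (p * q)) p) -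
          Pi.single (Fin.succ j) (PolyNodeRing.x R (p * q)) : Fin (n + 1) → PolyNodeRing R (p * q)) =
          Pi.single ⟨i + 1, hi⟩ (PolyNodeRing.x R (p * q) ^ (a + 1)) := by
        have e1 : (⟨i, by omega⟩ : Fin (n + 1)) = Fin.castSucc j := rfl
        have e2 : (⟨i + 1, hi⟩ : Fin (n + 1)) = Fin.succ j := rfl
        rw [e1, e2, smul_sub, ← Pi.single_smul, ← Pi.single_smul, ← Pi.single_smul, smul_eq,
          smul_eq_mul, smul_eq_mul, ← pow_succ, mul_comm (algebraMap R _ p)]
        abel
      rwa [h4] at h3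

lemma single_y_mem (n : ℕ) (i : ℕ) (hi : i < n + 1) (a : ℕ) :
    (Pi.single ⟨n - i, by omega⟩ (PolyNodeRing.y R (p * q) ^ a) : Fin (n + 1) → PolyNodeRing R (p * q)) ∈
      tot p q n := by
  induction i generalizing a with
  | zero =>
    have h := w_mem' (p := p) (q := q) n ((n + a : ℕ) : ℤ)
    have h1 : w p q n ((n + a : ℕ) : ℤ) = Pi.single ⟨n - 0, by omega⟩ (PolyNodeRing.y R (p * q) ^ a) := by
      rw [w]
      have e1 : (-((n + a : ℕ) : ℤ)).toNat = 0 := by omega
      have e2 : (((n + a : ℕ) : ℤ) - n).toNat = a := by omega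
      have e3 : (⟨(min ((n + a : ℕ) : ℤ) n).toNat, by omega⟩ : Fin (n + 1)) = ⟨n - 0, by omega⟩ :=
        Fin.ext (by simp only; omega)
      rw [e1, e2, e3, pow_zero, one_mul]
    rwa [h1] at h
  | succ i ih =>
    cases a with
    | zero =>
      have h := w_mem' (p := p) (q := q) n ((n - (i + 1) : ℕ) : ℤ)
      have h1 : w p q n ((n - (i + 1) : ℕ) : ℤ) =
          Pi.single ⟨n - (i + 1), by omega⟩ (PolyNodeRing.y R (p * q) ^ 0) := by
        rw [w]
        have e1 : (-((n - (i + 1) : ℕ) : ℤ)).toNat = 0 := by omega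
        have e2 : (((n - (i + 1) : ℕ) : ℤ) - n).toNat = 0 := by omega
        have e3 : (⟨(min ((n - (i + 1) : ℕ) : ℤ) n).toNat, by omega⟩ : Fin (n + 1)) =
            ⟨n - (i + 1), by omega⟩ := Fin.ext (by simp only; omega)
        rw [e1, e2, e3, pow_zero, pow_zero, mul_one]
      rwa [h1] at h
    | succ a =>
      have h1 := ih (by omega) a
      let j : Fin n := ⟨n - (i + 1), by omega⟩
      have h2 : (PolyNodeRing.y R (p * q) ^ a) •
          (Pi.single (Fin.castSucc j) (PolyNodeRing.y R (p * q)) -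
          Pi.single (Fin.succ j) (algebraMap R (PolyNodeRing R (p * q)) q) :
            Fin (n + 1) → PolyNodeRing R (p * q)) ∈
          rel (p := p) (q := q) n :=
        Submodule.smul_mem _ _ (Submodule.subset_span (Or.inr ⟨j, rfl⟩))
      have h3 := (tot p q n).add_mem ((tot p q n).smul_mem q h1) (rel_le n h2)
      have h4 : q • (Pi.single ⟨n - i, by omega⟩ (PolyNodeRing.y R (p * q) ^ a) :
          Fin (n + 1) → PolyNodeRing R (p * q)) + (PolyNodeRing.y R (p * q) ^ a) •
          (Pi.single (Fin.castSucc j) (PolyNodeRing.y R (p * q)) -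
          Pi.single (Fin.succ j) (algebraMap R (PolyNodeRing R (p * q)) q) :
            Fin (n + 1) → PolyNodeRing R (p * q)) =
          Pi.single ⟨n - (i + 1), by omega⟩ (PolyNodeRing.y R (p * q) ^ (a + 1)) := by
        have e1 : (⟨n - i, by omega⟩ : Fin (n + 1)) = Fin.succ j :=
          Fin.ext (by simp only [j, Fin.val_succ]; omega)
        have e2 : (⟨n - (i + 1), by omega⟩ : Fin (n + 1)) = Fin.castSucc j := rfl
        rw [e1, e2, smul_sub, ← Pi.single_smul, ← Pi.single_smul, ← Pi.single_smul, smul_eq,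
          smul_eq_mul, smul_eq_mul, ← pow_succ, mul_comm (algebraMap R _ q)]
        abel
      rwa [h4] at h3

/-- Every vector is a combination of relations and distinguished elements. -/
lemma mem_tot (n : ℕ) (F : Fin (n + 1) → PolyNodeRing R (p * q)) : F ∈ tot p q n := by
  have hs : ∀ (i : Fin (n + 1)) (a : PolyNodeRing R (p * q)),
      (Pi.single i a : Fin (n + 1) → PolyNodeRing R (p * q)) ∈ tot p q n := by
    intro i a
    have ha := ofZ_toZ R (p * q) a
    rw [← ha]
    generalize toZ R (p * q) a = c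
    induction c using Finsupp.induction_linear with
    | zero => rw [map_zero, Pi.single_zero]; exact Submodule.zero_mem _
    | add f g hf hg => rw [map_add, Pi.single_add]; exact Submodule.add_mem _ hf hg
    | single m r =>
      rw [ofZ, Finsupp.linearCombination_single, Pi.single_smul]
      refine Submodule.smul_mem _ _ ?_
      rcases le_or_gt 0 m with hm | hm
      · have h1 : bas R (p * q) m = PolyNodeRing.x R (p * q) ^ m.toNat := by
          rw [bas]
          have : (-m).toNat = 0 := by omega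
          rw [this, pow_zero, mul_one]
        rw [h1]
        exact single_x_mem n i i.2 _
      · have h1 : bas R (p * q) m = PolyNodeRing.y R (p * q) ^ (-m).toNat := by
          rw [bas]
          have : m.toNat = 0 := by omega
          rw [this, pow_zero, one_mul]
        rw [h1]
        have h2 := single_y_mem (p := p) (q := q) n (n - i) (by omega) (-m).toNat
        have h3 : (⟨n - (n - i), by omega⟩ : Fin (n + 1)) = i := Fin.ext (by simp only; omega)
        rwa [h3] at h2
  rw [← Finset.univ_sum_single F]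
  exact Submodule.sum_mem _ fun i _ => hs i (F i)

section Psi

variable (rU : PolyNodeRing R (p * q) →ₐ[R] PolyNodeRing R q)
    (hrUx : rU (PolyNodeRing.x R (p * q)) = algebraMap R _ p * PolyNodeRing.x R q)
    (hrUy : rU (PolyNodeRing.y R (p * q)) = PolyNodeRing.y R q)
    (rV : PolyNodeRing R (p * q) →ₐ[R] PolyNodeRing R p)
    (hrVx : rV (PolyNodeRing.x R (p * q)) = PolyNodeRing.y R p)
    (hrVy : rV (PolyNodeRing.y R (p * q)) = algebraMap R _ q * PolyNodeRing.x R p)

/-- `U`-component of the map from `A ^ (n + 1)`. -/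
noncomputable def psiU (n : ℕ) : (Fin (n + 1) → PolyNodeRing R (p * q)) →ₗ[R] PolyNodeRing R q :=
  ∑ i : Fin (n + 1), (LinearMap.mulRight R (PolyNodeRing.x R q ^ (n - (i : ℕ)))) ∘ₗ
    rU.toLinearMap ∘ₗ (LinearMap.proj i)

/-- `V`-component of the map from `A ^ (n + 1)`. -/
noncomputable def psiV (n : ℕ) : (Fin (n + 1) → PolyNodeRing R (p * q)) →ₗ[R] PolyNodeRing R p :=
  ∑ i : Fin (n + 1), (LinearMap.mulRight R (PolyNodeRing.x R p ^ (i : ℕ))) ∘ₗ
    rV.toLinearMap ∘ₗ (LinearMap.proj i)

lemma psiU_apply (n : ℕ) (F : Fin (n + 1) → PolyNodeRing R (p * q)) :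
    psiU rU n F = ∑ i : Fin (n + 1), rU (F i) * PolyNodeRing.x R q ^ (n - (i : ℕ)) := by
  rw [psiU, LinearMap.sum_apply]
  rfl

lemma psiV_apply (n : ℕ) (F : Fin (n + 1) → PolyNodeRing R (p * q)) :
    psiV rV n F = ∑ i : Fin (n + 1), rV (F i) * PolyNodeRing.x R p ^ (i : ℕ) := by
  rw [psiV, LinearMap.sum_apply]
  rfl

lemma psiU_single (n : ℕ) (i : Fin (n + 1)) (a : PolyNodeRing R (p * q)) :
    psiU rU n (Pi.single i a) = rU a * PolyNodeRing.x R q ^ (n - (i : ℕ)) := by
  rw [psiU_apply, Finset.sum_eq_single i]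
  · rw [Pi.single_eq_same]
  · intro j _ hj
    rw [Pi.single_eq_of_ne hj, map_zero, zero_mul]
  · intro h
    exact absurd (Finset.mem_univ i) h

lemma psiV_single (n : ℕ) (i : Fin (n + 1)) (a : PolyNodeRing R (p * q)) :
    psiV rV n (Pi.single i a) = rV a * PolyNodeRing.x R p ^ (i : ℕ) := by
  rw [psiV_apply, Finset.sum_eq_single i]
  · rw [Pi.single_eq_same]
  · intro j _ hj
    rw [Pi.single_eq_of_ne hj, map_zero, zero_mul]
  · intro h
    exact absurd (Finset.mem_univ i) h

lemma psiU_smul (n : ℕ) (a : PolyNodeRing R (p * q)) (F : Fin (n + 1) → PolyNodeRing R (p * q)) :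
    psiU rU n (a • F) = rU a * psiU rU n F := by
  rw [psiU_apply, psiU_apply, Finset.mul_sum]
  refine Finset.sum_congr rfl fun i _ => ?_
  rw [Pi.smul_apply, smul_eq_mul, map_mul rU, mul_assoc]

lemma psiV_smul (n : ℕ) (a : PolyNodeRing R (p * q)) (F : Fin (n + 1) → PolyNodeRing R (p * q)) :
    psiV rV n (a • F) = rV a * psiV rV n F := by
  rw [psiV_apply, psiV_apply, Finset.mul_sum]
  refine Finset.sum_congr rfl fun i _ => ?_
  rw [Pi.smul_apply, smul_eq_mul, map_mul rV, mul_assoc]

include hrUx hrUy hrVx hrVy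

lemma psi_rel (n : ℕ) {F : Fin (n + 1) → PolyNodeRing R (p * q)} (hF : F ∈ rel (p := p) (q := q) n) :
    psiU rU n F = 0 ∧ psiV rV n F = 0 := by
  induction hF using Submodule.span_induction with
  | mem x hx =>
    rcases hx with ⟨i, rfl⟩ | ⟨i, rfl⟩
    · rw [map_sub, map_sub, psiU_single, psiU_single, psiV_single, psiV_single, hrUx, hrVx,
        AlgHom.commutes, AlgHom.commutes]
      have h1 : n - ((Fin.castSucc i : Fin (n + 1)) : ℕ) = n - ((Fin.succ i : Fin (n + 1)) : ℕ) + 1 := by
        rw [Fin.val_castSucc, Fin.val_succ]; omega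
      constructor
      · rw [h1, pow_succ]; ring
      · rw [Fin.val_castSucc, Fin.val_succ, pow_succ, ← x_mul_y R p]
        ring
    · rw [map_sub, map_sub, psiU_single, psiU_single, psiV_single, psiV_single, hrUy, hrVy,
        AlgHom.commutes, AlgHom.commutes]
      have h1 : n - ((Fin.castSucc i : Fin (n + 1)) : ℕ) = n - ((Fin.succ i : Fin (n + 1)) : ℕ) + 1 := by
        rw [Fin.val_castSucc, Fin.val_succ]; omega
      constructor
      · rw [h1, pow_succ, ← x_mul_y R q]; ring
      · rw [Fin.val_castSucc, Fin.val_succ, pow_succ]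
        ring
  | zero => rw [map_zero, map_zero]; exact ⟨rfl, rfl⟩
  | add x y _ _ hx hy => rw [map_add, map_add, hx.1, hx.2, hy.1, hy.2]; simp
  | smul a x _ hx => rw [psiU_smul, psiV_smul, hx.1, hx.2]; simp

lemma psi_w (n : ℕ) (k : ℤ) :
    psiU rU n (w p q n k) = p ^ (-k).toNat • bas R q ((n : ℤ) - k) ∧
      psiV rV n (w p q n k) = q ^ (k - n).toNat • bas R p k := by
  rw [w, psiU_single, psiV_single, map_mul rU, map_mul rV, map_pow rU, map_pow rU, map_pow rV,
    map_pow rV, hrUx, hrUy,
    hrVx, hrVy, smul_eq, smul_eq, bas, bas, mul_pow, mul_pow, ← map_pow (algebraMap R (PolyNodeRing R q)),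
    ← map_pow (algebraMap R (PolyNodeRing R p))]
  constructor
  · rcases le_or_gt k n with hk | hk
    · have e1 : (k - n).toNat = 0 := by omega
      have e2 : (-((n : ℤ) - k)).toNat = 0 := by omega
      have e3 : ((n : ℤ) - k).toNat = (-k).toNat + (n - (min k n).toNat) := by omega
      rw [e1, e2, e3, pow_add]
      ring
    · have e1 : (-k).toNat = 0 := by omega
      have e2 : ((n : ℤ) - k).toNat = 0 := by omega
      have e3 : (n - (min k n).toNat) = 0 := by omega
      have e4 : (-((n : ℤ) - k)).toNat = (k - n).toNat := by omega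
      rw [e1, e2, e3, e4]
      ring
  · rcases le_or_gt 0 k with hk | hk
    · have e1 : (-k).toNat = 0 := by omega
      have e2 : k.toNat = (k - n).toNat + (min k n).toNat := by omega
      rw [e1, e2, pow_add]
      ring
    · have e1 : (k - n).toNat = 0 := by omega
      have e2 : k.toNat = 0 := by omega
      have e3 : (min k n).toNat = 0 := by omega
      dsimp only
      rw [e1, e2, e3]
      ring

lemma psi_sigma (n : ℕ) (c : ℤ →₀ R) :
    psiU rU n (sigma p q n c) = thetaU q p n c ∧ psiV rV n (sigma p q n c) = thetaV q p n c := by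
  constructor
  · have h : psiU rU n ∘ₗ sigma p q n = thetaU q p n := by
      refine Finsupp.lhom_ext' fun k => LinearMap.ext_ring ?_
      simp only [LinearMap.comp_apply, Finsupp.lsingle_apply, thetaU, sigma,
        Finsupp.linearCombination_single, one_smul]
      exact (psi_w rU hrUx hrUy rV hrVx hrVy n k).1
    exact LinearMap.congr_fun h c
  · have h : psiV rV n ∘ₗ sigma p q n = thetaV q p n := by
      refine Finsupp.lhom_ext' fun k => LinearMap.ext_ring ?_
      simp only [LinearMap.comp_apply, Finsupp.lsingle_apply, thetaV, sigma,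
        Finsupp.linearCombination_single, one_smul]
      exact (psi_w rU hrUx hrUy rV hrVx hrVy n k).2
    exact LinearMap.congr_fun h c

/-- The kernel is the module of relations. -/
theorem ker_psi (n : ℕ) (F : Fin (n + 1) → PolyNodeRing R (p * q)) :
    (psiU rU n F = 0 ∧ psiV rV n F = 0) ↔ F ∈ rel (p := p) (q := q) n := by
  refine ⟨?_, psi_rel rU hrUx hrUy rV hrVx hrVy n⟩
  rintro ⟨h1, h2⟩
  obtain ⟨ρ, hρ, _, ⟨c, rfl⟩, rfl⟩ := Submodule.mem_sup.mp (mem_tot n F)
  have h3 := psi_rel rU hrUx hrUy rV hrVx hrVy n hρ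
  have h4 := psi_sigma rU hrUx hrUy rV hrVx hrVy n c
  rw [map_add, h3.1, zero_add, h4.1] at h1
  rw [map_add, h3.2, zero_add, h4.2] at h2
  have h5 := theta_injective q p (by omega) h1 h2
  rw [h5, map_zero, add_zero]
  exact hρ

variable (gU : PolyNodeRing R q →ₐ[R] LaurentPolynomial R)
    (hgUs : gU (PolyNodeRing.x R q) = LaurentPolynomial.T 1)
    (hgUy : gU (PolyNodeRing.y R q) = LaurentPolynomial.C q * LaurentPolynomial.T (-1))
    (gV : PolyNodeRing R p →ₐ[R] LaurentPolynomial R)
    (hgVt : gV (PolyNodeRing.x R p) = LaurentPolynomial.T (-1))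
    (hgVx : gV (PolyNodeRing.y R p) = LaurentPolynomial.C p * LaurentPolynomial.T 1)

include hgUs hgUy hgVt hgVx

theorem range_psi (n : ℕ) (g : PolyNodeRing R q) (f : PolyNodeRing R p) :
    (∃ F : Fin (n + 1) → PolyNodeRing R (p * q), psiU rU n F = g ∧ psiV rV n F = f) ↔
      gU g = LaurentPolynomial.T (n : ℤ) * gV f := by
  constructor
  · rintro ⟨F, rfl, rfl⟩
    have h : gU.comp rU = gV.comp rV := by
      apply algHom_ext'
      · rw [AlgHom.comp_apply, AlgHom.comp_apply, hrUx, hrVx, map_mul gU, AlgHom.commutes, hgUs, hgVx]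
        rfl
      · rw [AlgHom.comp_apply, AlgHom.comp_apply, hrUy, hrVy, map_mul gV, AlgHom.commutes, hgUy, hgVt]
        rfl
    rw [psiU_apply, psiV_apply, map_sum, map_sum, Finset.mul_sum]
    refine Finset.sum_congr rfl fun i _ => ?_
    rw [map_mul gU, map_mul gV, map_pow gU, map_pow gV, hgUs, hgVt, LaurentPolynomial.T_pow,
      LaurentPolynomial.T_pow]
    have h1 : gU (rU (F i)) = gV (rV (F i)) := AlgHom.congr_fun h (F i)
    rw [h1, mul_left_comm, ← LaurentPolynomial.T_add]
    congr 2
    have := i.2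
    rw [Nat.cast_sub (by omega)]
    ring
  · intro h
    rw [cond_iff gU hgUs hgUy gV hgVt hgVx] at h
    obtain ⟨c, h1, h2⟩ := exists_theta q p (by omega : (-1 : ℤ) ≤ n) h
    have h4 := psi_sigma rU hrUx hrUy rV hrVx hrVy n c
    exact ⟨sigma p q n c, h4.1.trans h1, h4.2.trans h2⟩

end Psi

end K955.RangeKer
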