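import Groth.Prelude.Def_W4c5spincurvestfNode
import Mathlib.Algebra.Polynomial.Laurent
import Mathlib.LinearAlgebra.Finsupp.LinearCombination
import Mathlib.LinearAlgebra.FreeModule.Basic
import Mathlib.Tactic

/-!
# Coordinates on `R[x, y]/(xy - π)`

`PolyNodeRing R π` is free over `R` with basis `x ^ m` (`m ≥ 0`), `y ^ (-m)` (`m < 0`), indexed by
`m : ℤ`.
-/

set_option autoImplicit false

universe u

namespace K955.PolyCoord

open SpinCurv

variable (R : Type u) [CommRing R] (π : R)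

/-- The normal form of a monomial `x ^ a y ^ b`. -/
noncomputable def monoZ (d : Fin 2 →₀ ℕ) : ℤ →₀ R :=
  Finsupp.single ((d 0 : ℤ) - d 1) (π ^ (min (d 0) (d 1)))

/-- The linear map `R[x, y] → (ℤ →₀ R)`. -/
noncomputable def toZ₀ : MvPolynomial (Fin 2) R →ₗ[R] (ℤ →₀ R) :=
  (MvPolynomial.basisMonomials (Fin 2) R).constr R (monoZ R π)

lemma toZ₀_monomial (d : Fin 2 →₀ ℕ) (r : R) :
    toZ₀ R π (MvPolynomial.monomial d r) = r • monoZ R π d := by
  have : MvPolynomial.monomial d r = r • (MvPolynomial.basisMonomials (Fin 2) R d) := by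
    rw [MvPolynomial.coe_basisMonomials, MvPolynomial.smul_monomial, smul_eq_mul, mul_one]
  rw [this, map_smul, toZ₀, Module.Basis.constr_basis]

lemma toZ₀_mem (f : MvPolynomial (Fin 2) R)
    (hf : f ∈ Ideal.span {(MvPolynomial.X 0 * MvPolynomial.X 1 - MvPolynomial.C π :
      MvPolynomial (Fin 2) R)}) : toZ₀ R π f = 0 := by
  rw [Ideal.mem_span_singleton'] at hf
  obtain ⟨a, rfl⟩ := hf
  induction a using MvPolynomial.induction_on' with
  | monomial d r =>
    have h1 : (MvPolynomial.monomial d r : MvPolynomial (Fin 2) R) *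
        (MvPolynomial.X 0 * MvPolynomial.X 1 - MvPolynomial.C π) =
        MvPolynomial.monomial (d + (Finsupp.single 0 1 + Finsupp.single 1 1)) r -
          MvPolynomial.monomial d (r * π) := by
      rw [mul_sub, MvPolynomial.X, MvPolynomial.X, MvPolynomial.monomial_mul,
        MvPolynomial.monomial_mul, MvPolynomial.C_apply, MvPolynomial.monomial_mul]
      simp
    rw [h1, map_sub, toZ₀_monomial, toZ₀_monomial, monoZ, monoZ]
    simp only [Finsupp.add_apply, Finsupp.single_apply]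
    simp only [Fin.isValue, ↓reduceIte, one_ne_zero, add_zero, zero_ne_one, zero_add]
    rw [Finsupp.smul_single, Finsupp.smul_single]
    have h2 : (((d 0 + 1 : ℕ) : ℤ)) - ((d 1 + 1 : ℕ) : ℤ) = (d 0 : ℤ) - d 1 := by push_cast; ring
    rw [h2, ← Finsupp.single_sub]
    have h3 : min (d 0 + 1) (d 1 + 1) = min (d 0) (d 1) + 1 := by omega
    rw [h3, smul_eq_mul, smul_eq_mul, pow_succ]
    have h4 : r * (π ^ min (d 0) (d 1) * π) - r * π * π ^ min (d 0) (d 1) = 0 := by ring
    rw [h4, Finsupp.single_zero]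
  | add p q hp hq =>
    rw [add_mul, map_add, hp, hq, add_zero]

/-- The coordinates of an element of `R[x, y]/(xy - π)`. -/
noncomputable def toZ : PolyNodeRing R π →ₗ[R] (ℤ →₀ R) :=
  ((Ideal.span {(MvPolynomial.X 0 * MvPolynomial.X 1 - MvPolynomial.C π :
      MvPolynomial (Fin 2) R)}).restrictScalars R).liftQ (toZ₀ R π) (fun f hf => toZ₀_mem R π f hf)

lemma toZ_mk (f : MvPolynomial (Fin 2) R) :
    toZ R π (Ideal.Quotient.mk _ f) = toZ₀ R π f := rfl

/-- The basis elements. -/
noncomputable def bas (m : ℤ) : PolyNodeRing R π :=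
  PolyNodeRing.x R π ^ m.toNat * PolyNodeRing.y R π ^ (-m).toNat

/-- The inverse of `toZ`. -/
noncomputable def ofZ : (ℤ →₀ R) →ₗ[R] PolyNodeRing R π :=
  Finsupp.linearCombination R (bas R π)

lemma x_mul_y : PolyNodeRing.x R π * PolyNodeRing.y R π = algebraMap R (PolyNodeRing R π) π := by
  change Ideal.Quotient.mk _ (MvPolynomial.X 0) * Ideal.Quotient.mk _ (MvPolynomial.X 1) =
    Ideal.Quotient.mk _ (MvPolynomial.C π)
  rw [← map_mul, Ideal.Quotient.eq]
  exact Ideal.subset_span rfl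

lemma smul_eq (r : R) (a : PolyNodeRing R π) : r • a = algebraMap R (PolyNodeRing R π) r * a :=
  Algebra.smul_def r a

lemma mk_monomial (d : Fin 2 →₀ ℕ) (r : R) :
    (Ideal.Quotient.mk _ (MvPolynomial.monomial d r) : PolyNodeRing R π) =
      r • (PolyNodeRing.x R π ^ d 0 * PolyNodeRing.y R π ^ d 1) := by
  have h1 : (MvPolynomial.monomial d r : MvPolynomial (Fin 2) R) =
      MvPolynomial.C r * (MvPolynomial.X 0 ^ d 0 * MvPolynomial.X 1 ^ d 1) := by
    rw [MvPolynomial.monomial_eq, Finsupp.prod_fintype _ _ (fun _ => pow_zero _), Fin.prod_univ_two]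
  rw [h1, map_mul, map_mul, map_pow, map_pow, smul_eq]
  rfl

lemma ofZ_monoZ (d : Fin 2 →₀ ℕ) :
    ofZ R π (monoZ R π d) = PolyNodeRing.x R π ^ d 0 * PolyNodeRing.y R π ^ d 1 := by
  rw [ofZ, monoZ, Finsupp.linearCombination_single, bas, smul_eq, map_pow, ← x_mul_y,
    mul_pow]
  rcases le_total (d 0) (d 1) with h | h
  · obtain ⟨k, hk⟩ := Nat.exists_eq_add_of_le h
    rw [hk, min_eq_left (by omega)]
    have h1 : ((d 0 : ℤ) - ((d 0 + k : ℕ) : ℤ)).toNat = 0 := by omega
    have h2 : (-((d 0 : ℤ) - ((d 0 + k : ℕ) : ℤ))).toNat = k := by omega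
    rw [h1, h2, pow_add]
    ring
  · obtain ⟨k, hk⟩ := Nat.exists_eq_add_of_le h
    rw [hk, min_eq_right (by omega)]
    have h1 : (((d 1 + k : ℕ) : ℤ) - (d 1 : ℤ)).toNat = k := by omega
    have h2 : (-(((d 1 + k : ℕ) : ℤ) - (d 1 : ℤ))).toNat = 0 := by omega
    rw [h1, h2, pow_add]
    ring

lemma ofZ_toZ (a : PolyNodeRing R π) : ofZ R π (toZ R π a) = a := by
  obtain ⟨f, rfl⟩ := Ideal.Quotient.mk_surjective a
  rw [toZ_mk]
  induction f using MvPolynomial.induction_on' with
  | monomial d r =>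
    rw [toZ₀_monomial, map_smul, ofZ_monoZ, mk_monomial]
  | add p q hp hq => rw [map_add, map_add, map_add, hp, hq]

lemma toZ_bas (m : ℤ) : toZ R π (bas R π m) = Finsupp.single m 1 := by
  have h1 : bas R π m = Ideal.Quotient.mk _ (MvPolynomial.monomial
      (Finsupp.single 0 m.toNat + Finsupp.single 1 (-m).toNat) 1) := by
    rw [mk_monomial, one_smul, bas]
    simp
  rw [h1, toZ_mk, toZ₀_monomial, one_smul, monoZ]
  simp only [Finsupp.add_apply, Finsupp.single_apply]
  simp only [Fin.isValue, ↓reduceIte, one_ne_zero, add_zero, zero_ne_one, zero_add]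
  congr 1
  · omega
  · have : min m.toNat (-m).toNat = 0 := by omega
    rw [this, pow_zero]

lemma toZ_ofZ (c : ℤ →₀ R) : toZ R π (ofZ R π c) = c := by
  have : toZ R π ∘ₗ ofZ R π = LinearMap.id := by
    ext m
    simp [ofZ, toZ_bas]
  exact LinearMap.congr_fun this c

/-- `R[x, y]/(xy - π)` is the free module on `ℤ`. -/
noncomputable def equivZ : PolyNodeRing R π ≃ₗ[R] (ℤ →₀ R) :=
  LinearEquiv.ofLinearMap (toZ R π) (ofZ R π) (LinearMap.ext fun c => toZ_ofZ R π c)
    (LinearMap.ext fun a => ofZ_toZ R π a)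

lemma toZ_injective : Function.Injective (toZ R π) := (equivZ R π).injective

lemma ext_toZ {a b : PolyNodeRing R π} (h : ∀ m, toZ R π a m = toZ R π b m) : a = b :=
  toZ_injective R π (Finsupp.ext h)

lemma eq_zero_of_toZ {a : PolyNodeRing R π} (h : ∀ m, toZ R π a m = 0) : a = 0 :=
  toZ_injective R π (by rw [map_zero]; exact Finsupp.ext h)

/-- induction principle: linear maps out of the node ring agree when they agree on the basis. -/
lemma hom_ext {M : Type*} [AddCommGroup M] [Module R M] {f g : PolyNodeRing R π →ₗ[R] M}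
    (h : ∀ m, f (bas R π m) = g (bas R π m)) : f = g := by
  have h1 : f ∘ₗ ofZ R π = g ∘ₗ ofZ R π := by
    refine Finsupp.lhom_ext' fun m => LinearMap.ext_ring ?_
    simp only [LinearMap.comp_apply, Finsupp.lsingle_apply, ofZ, Finsupp.linearCombination_single,
      one_smul]
    exact h m
  refine LinearMap.ext fun a => ?_
  have := LinearMap.congr_fun h1 (toZ R π a)
  rwa [LinearMap.comp_apply, LinearMap.comp_apply, ofZ_toZ] at this

lemma bas_of_nonneg (n : ℕ) : bas R π n = PolyNodeRing.x R π ^ n := by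
  rw [bas]; simp

lemma bas_of_neg (n : ℕ) : bas R π (-n) = PolyNodeRing.y R π ^ n := by
  rw [bas]; simp

end K955.PolyCoord
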